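import Mathlib
import Cfsg.Agent.S0249
import Cfsg.Agent.S0242
import Cfsg.Agent.S0254
import Cfsg.Agent.ClassicalGeometry.AutPSL.Main
import Cfsg.Agent.ClassicalGeometry.PSL2Basic
import Cfsg.Agent.Lib.FieldAutCard
import Cfsg.Agent.GH.EFrameAct
set_option linter.all false

/-!
# General facts: `Aut(2³) ≅ SL(3,2)`, `|Aut(A₆)| = 1440`, and a criterion for direct products
-/

set_option autoImplicit false

namespace Cfsg.Agent.H824.ProdLem

open Matrix

/-! ### `SL(3,2)` -/

abbrev SL32 : Type := Matrix.SpecialLinearGroup (Fin 3) (ZMod 2)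

theorem card_sl32 : Nat.card SL32 = 168 := by
  have h := S0242.result (F := ZMod 2) (q := 2) (ZMod.card 2) 3 (by norm_num)
  rw [Fin.prod_univ_three] at h
  have h1 : (2 ^ 3 - 2 ^ ((0 : Fin 3) : ℕ)) * (2 ^ 3 - 2 ^ ((1 : Fin 3) : ℕ)) *
      (2 ^ 3 - 2 ^ ((2 : Fin 3) : ℕ)) = 168 := rfl
  rw [h1, show 2 - 1 = 1 from rfl, one_mul] at h
  exact h

theorem center_sl32 : Subgroup.center SL32 = ⊥ := by
  rw [eq_bot_iff]
  intro A hA
  obtain ⟨r, hr, hrA⟩ := Matrix.SpecialLinearGroup.mem_center_iff.1 hA
  have h2 : ∀ r : ZMod 2, r ^ 3 = 1 → r = 1 := by decide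
  have h1 : r = 1 := h2 r (by simpa using hr)
  rw [Subgroup.mem_bot]
  apply Subtype.ext
  rw [← hrA, h1]
  simp

theorem simple_sl32 : IsSimpleGroup SL32 := by
  have hs : IsSimpleGroup (Matrix.ProjectiveSpecialLinearGroup (Fin 3) (ZMod 2)) :=
    Cfsg.Agent.S0249.result 3 le_rfl
  let e2 : Matrix.ProjectiveSpecialLinearGroup (Fin 3) (ZMod 2) ≃* SL32 :=
    (QuotientGroup.quotientMulEquivOfEq center_sl32).trans QuotientGroup.quotientBot
  have : Nontrivial SL32 := Finite.one_lt_card_iff_nontrivial.1 (by rw [card_sl32]; norm_num)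
  exact IsSimpleGroup.isSimpleGroup_of_surjective e2.toMonoidHom e2.surjective

/-- `Aut(2³) ≅ SL(3,2)` -/
theorem aut_eight {V : Type*} [Group V] (hsq : ∀ x : V, x * x = 1) (hc : Nat.card V = 8) :
    Nonempty (MulAut V ≃* SL32) := by
  have hcomm : ∀ x y : V, x * y = y * x := by
    intro x y
    have h1 := hsq (x * y)
    have hx' : x⁻¹ = x := inv_eq_of_mul_eq_one_right (hsq x)
    have hy' : y⁻¹ = y := inv_eq_of_mul_eq_one_right (hsq y)
    have h2 : x * y = (x * y)⁻¹ := (inv_eq_of_mul_eq_one_right h1).symm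
    rw [h2, _root_.mul_inv_rev, hx', hy']
  let inst : CommGroup V := { (inferInstance : Group V) with mul_comm := hcomm }
  have hfin : Finite V := by
    apply Nat.finite_of_card_ne_zero; rw [hc]; norm_num
  have f2 : Fact (Nat.Prime 2) := ⟨Nat.prime_two⟩
  let m : Module (ZMod 2) (Additive V) := AddCommGroup.zmodModule (n := 2) (fun x => by
    rw [two_nsmul]; exact congrArg Additive.ofMul (hsq x.toMul))
  have hfinA : Finite (Additive V) := hfin
  have h1 : Module.finrank (ZMod 2) (Additive V) = 3 := by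
    have h2 : Nat.card (Additive V) = Nat.card (ZMod 2) ^ Module.finrank (ZMod 2) (Additive V) :=
      Module.natCard_eq_pow_finrank
    rw [Nat.card_zmod] at h2
    have h3 : Nat.card (Additive V) = 8 := hc
    rw [h3] at h2
    have h4 : (2 : ℕ) ^ 3 = 2 ^ Module.finrank (ZMod 2) (Additive V) := by rw [← h2]; norm_num
    exact (Nat.pow_right_injective le_rfl h4).symm
  have h2 : Module.finrank (ZMod 2) (Fin 3 → ZMod 2) = 3 := by simp
  let e : Additive V ≃ₗ[ZMod 2] (Fin 3 → ZMod 2) := LinearEquiv.ofFinrankEq _ _ (by rw [h1, h2])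
  -- the action of a matrix
  let f : SL32 →* MulAut V :=
    { toFun := fun g =>
        { toFun := fun x => (e.symm (g.1 *ᵥ e (Additive.ofMul x))).toMul
          invFun := fun x => (e.symm (g⁻¹.1 *ᵥ e (Additive.ofMul x))).toMul
          left_inv := by
            intro x
            have h3 : g⁻¹.1 * g.1 = 1 := congrArg Subtype.val (inv_mul_cancel g)
            show (e.symm (g⁻¹.1 *ᵥ e (e.symm (g.1 *ᵥ e (Additive.ofMul x))))).toMul = x
            rw [e.apply_symm_apply, mulVec_mulVec, h3, one_mulVec, e.symm_apply_apply]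
            rfl
          right_inv := by
            intro x
            have h3 : g.1 * g⁻¹.1 = 1 := congrArg Subtype.val (mul_inv_cancel g)
            show (e.symm (g.1 *ᵥ e (e.symm (g⁻¹.1 *ᵥ e (Additive.ofMul x))))).toMul = x
            rw [e.apply_symm_apply, mulVec_mulVec, h3, one_mulVec, e.symm_apply_apply]
            rfl
          map_mul' := by
            intro x y
            show (e.symm (g.1 *ᵥ e (Additive.ofMul x + Additive.ofMul y))).toMul = _
            rw [map_add, mulVec_add, map_add]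
            rfl }
      map_one' := by
        apply MulEquiv.ext
        intro x
        show (e.symm ((1 : Matrix (Fin 3) (Fin 3) (ZMod 2)) *ᵥ e (Additive.ofMul x))).toMul = x
        rw [one_mulVec, e.symm_apply_apply]
        rfl
      map_mul' := by
        intro g h
        apply MulEquiv.ext
        intro x
        show (e.symm ((g.1 * h.1) *ᵥ e (Additive.ofMul x))).toMul =
          (e.symm (g.1 *ᵥ e (e.symm (h.1 *ᵥ e (Additive.ofMul x))))).toMul
        rw [e.apply_symm_apply, mulVec_mulVec] }
  have hf : Function.Injective f := by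
    intro g h hgh
    apply Subtype.ext
    apply Matrix.ext_of_mulVec_single
    intro i
    have h3 := congrArg (fun t : MulAut V => t ((e.symm (Pi.single i 1)).toMul)) hgh
    have h4 : (e.symm (g.1 *ᵥ e (e.symm (Pi.single i 1)))).toMul =
      (e.symm (h.1 *ᵥ e (e.symm (Pi.single i 1)))).toMul := h3
    rw [e.apply_symm_apply] at h4
    exact e.symm.injective (Additive.toMul.injective h4)
  have hb : Function.Bijective f := by
    rw [Nat.bijective_iff_injective_and_card]
    refine ⟨hf, ?_⟩
    rw [card_sl32, GH.EFrameAct.card_mulAut_eight (fun x => by rw [pow_two]; exact hsq x) hc]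
  exact ⟨(MulEquiv.ofBijective f hb).symm⟩

/-! ### `A₆` -/

theorem card_a6 : Nat.card (alternatingGroup (Fin 6)) = 360 := by
  have := two_mul_nat_card_alternatingGroup (α := Fin 6)
  rw [Nat.card_perm, Nat.card_fin] at this
  have h6 : Nat.factorial 6 = 720 := rfl
  omega

theorem simple_a6 : IsSimpleGroup (alternatingGroup (Fin 6)) :=
  alternatingGroup.isSimpleGroup (by simp)

theorem card_aut_a6 : Nat.card (MulAut (alternatingGroup (Fin 6))) = 1440 := by
  have h3 : Fact (Nat.Prime 3) := ⟨Nat.prime_three⟩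
  have hF : Fintype.card S0254.K9 = 9 := S0254.card_k9
  obtain ⟨e⟩ := S0254.result (F := S0254.K9) hF
  have hchar : CharP S0254.K9 3 := by
    obtain ⟨q, hq⟩ := CharP.exists S0254.K9
    obtain ⟨n, hqp, hn⟩ := FiniteField.card S0254.K9 q
    have h4 : q ∣ 3 ^ 2 := by
      rw [show 3 ^ 2 = 9 by norm_num, ← hF, hn]
      exact dvd_pow_self q n.pos.ne'
    have h5 := hqp.dvd_of_dvd_pow h4
    rw [(Nat.prime_dvd_prime_iff_eq hqp Nat.prime_three).1 h5] at hq
    exact hq
  rw [← Nat.card_congr (MulAut.congr e).toEquiv, ClassicalGeometry.AutPSL.Main.card_two 3,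
    ClassicalGeometry.PSL2Basic.card_PGL2, hF,
    Lib.FieldAutCard.card_ringAut (p := 3) (f := 2) (by norm_num) (by rw [hF]; norm_num)]
  norm_num

theorem center_a6 {c : alternatingGroup (Fin 6)} (h : ∀ x, c * x = x * c) : c = 1 := by
  have hs := simple_a6
  rcases hs.eq_bot_or_eq_top_of_normal (Subgroup.center (alternatingGroup (Fin 6))) inferInstance with h1 | h1
  · have h2 : c ∈ Subgroup.center (alternatingGroup (Fin 6)) := by
      rw [Subgroup.mem_center_iff]
      intro g
      exact (h g).symm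
    rw [h1] at h2
    exact h2
  · exfalso
    have hcomm : ∀ a b : alternatingGroup (Fin 6), a * b = b * a := by
      intro a b
      have h2 : b ∈ Subgroup.center (alternatingGroup (Fin 6)) := by rw [h1]; trivial
      exact (Subgroup.mem_center_iff.1 h2) a
    let _ : CommGroup (alternatingGroup (Fin 6)) :=
      { (inferInstance : Group (alternatingGroup (Fin 6))) with mul_comm := hcomm }
    have hp : (Nat.card (alternatingGroup (Fin 6))).Prime := IsSimpleGroup.prime_card
    rw [card_a6] at hp
    norm_num at hp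

/-! ### a criterion for direct products -/

/-- `K ⊴ X`, `K ≅ S` with trivial centre, `X / K ≅ T` simple, `p` divides `|T|` but not `|Aut S|`: `X ≅ T × S`. -/
theorem prod_of_card {X : Type*} [Group X] [Finite X] (K : Subgroup X) [K.Normal] {S T : Type*} [Group S]
    [Group T] (eK : K ≃* S) (eT : X ⧸ K ≃* T) (hT : IsSimpleGroup T)
    (hZ : ∀ c : S, (∀ x, c * x = x * c) → c = 1) {p : ℕ} (hp : p.Prime) (h1 : p ∣ Nat.card T)
    (h2 : ¬ p ∣ Nat.card (MulAut S)) : Nonempty (X ≃* T × S) := by
  let Y : Subgroup X := Subgroup.centralizer (K : Set X)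
  have hYK : ∀ x ∈ K, x ∈ Y → x = 1 := by
    intro x hxK hxY
    have h3 : eK ⟨x, hxK⟩ = 1 := by
      apply hZ
      intro y
      obtain ⟨k, rfl⟩ := eK.surjective y
      rw [← map_mul, ← map_mul]
      congr 1
      apply Subtype.ext
      exact (Subgroup.mem_centralizer_iff.1 hxY k k.2).symm
    exact congrArg Subtype.val (eK.injective (h3.trans (map_one eK).symm))
  -- `X / Y` embeds in `Aut K`
  let c : X →* MulAut K := MulAut.conjNormal
  have hker : c.ker = Y := by
    ext x
    rw [MonoidHom.mem_ker, Subgroup.mem_centralizer_iff]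
    constructor
    · intro h k hk
      have h3 := congrArg (fun t : MulAut K => ((t ⟨k, hk⟩ : K) : X)) h
      have h4 : x * k * x⁻¹ = k := h3
      exact (mul_inv_eq_iff_eq_mul.1 h4).symm
    · intro h
      apply MulEquiv.ext
      intro k
      apply Subtype.ext
      show x * k * x⁻¹ = k
      rw [← h k k.2, mul_inv_cancel_right]
  have hnorm : Y.Normal := by rw [← hker]; infer_instance
  have hidx : Y.index ∣ Nat.card (MulAut S) := by
    rw [← hker, Subgroup.index_ker, ← Nat.card_congr (MulAut.congr eK).toEquiv]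
    exact Subgroup.card_subgroup_dvd_card _
  have hpY : p ∣ Nat.card Y := by
    have h3 : p ∣ Nat.card X := by
      have h4 := Subgroup.card_eq_card_quotient_mul_card_subgroup K
      rw [Nat.card_congr eT.toEquiv] at h4
      rw [h4]; exact Dvd.dvd.mul_right h1 _
    rw [← Subgroup.card_mul_index Y] at h3
    exact (hp.dvd_mul.1 h3).resolve_right fun h4 => h2 (h4.trans hidx)
  -- the image of `Y` in `X / K`
  have htop : (Y.map (QuotientGroup.mk' K)) = ⊤ := by
    have hs : IsSimpleGroup (X ⧸ K) := by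
      have : Nontrivial (X ⧸ K) := eT.toEquiv.nontrivial
      exact IsSimpleGroup.isSimpleGroup_of_surjective eT.symm.toMonoidHom eT.symm.surjective
    have hn : (Y.map (QuotientGroup.mk' K)).Normal := hnorm.map _ (QuotientGroup.mk'_surjective K)
    refine (hs.eq_bot_or_eq_top_of_normal _ hn).resolve_left fun h3 => ?_
    have h4 : Y = ⊥ := by
      rw [eq_bot_iff]
      intro y hy
      have h5 : QuotientGroup.mk' K y ∈ Y.map (QuotientGroup.mk' K) := ⟨y, hy, rfl⟩
      rw [h3] at h5
      exact hYK y ((QuotientGroup.eq_one_iff y).1 h5) hy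
    rw [h4, Subgroup.card_bot] at hpY
    exact hp.one_lt.ne' (Nat.dvd_one.1 hpY)
  -- `K ≅ X / Y`
  let g : K →* X ⧸ Y := (QuotientGroup.mk' Y).comp K.subtype
  have hg : Function.Bijective g := by
    constructor
    · rw [injective_iff_map_eq_one]
      intro k hk
      exact Subtype.ext (hYK k k.2 ((QuotientGroup.eq_one_iff (k : X)).1 hk))
    · intro x
      obtain ⟨x, rfl⟩ := QuotientGroup.mk_surjective x
      have h3 : QuotientGroup.mk' K x ∈ Y.map (QuotientGroup.mk' K) := by rw [htop]; trivial
      obtain ⟨y, hy, hyx⟩ := h3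
      have h4 : y⁻¹ * x ∈ K := QuotientGroup.eq.1 hyx
      refine ⟨⟨y⁻¹ * x, h4⟩, ?_⟩
      show (QuotientGroup.mk (y⁻¹ * x) : X ⧸ Y) = QuotientGroup.mk x
      rw [QuotientGroup.mk_mul, (QuotientGroup.eq_one_iff _).2 (Y.inv_mem hy), one_mul]
  let e1 : K ≃* X ⧸ Y := MulEquiv.ofBijective g hg
  let F : X →* T × S := (eT.toMonoidHom.comp (QuotientGroup.mk' K)).prod
    ((eK.toMonoidHom.comp e1.symm.toMonoidHom).comp (QuotientGroup.mk' Y))
  have hF : Function.Injective F := by
    rw [injective_iff_map_eq_one]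
    intro x hx
    have h3 : eT (QuotientGroup.mk x) = 1 := congrArg Prod.fst hx
    have h4 : eK (e1.symm (QuotientGroup.mk x)) = 1 := congrArg Prod.snd hx
    have h5 : (QuotientGroup.mk x : X ⧸ K) = 1 := eT.injective (h3.trans (map_one eT).symm)
    have h6 : e1.symm (QuotientGroup.mk x) = 1 := eK.injective (h4.trans (map_one eK).symm)
    have h7 : (QuotientGroup.mk x : X ⧸ Y) = 1 := e1.symm.injective (h6.trans (map_one e1.symm).symm)
    exact hYK x ((QuotientGroup.eq_one_iff x).1 h5) ((QuotientGroup.eq_one_iff x).1 h7)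
  have hFinS : Finite S := Finite.of_equiv K eK.toEquiv
  have hFinT : Finite T := Finite.of_equiv _ eT.toEquiv
  have hb : Function.Bijective F := by
    rw [Nat.bijective_iff_injective_and_card]
    refine ⟨hF, ?_⟩
    rw [Nat.card_prod, ← Nat.card_congr eT.toEquiv, ← Nat.card_congr eK.toEquiv]
    exact Subgroup.card_eq_card_quotient_mul_card_subgroup K
  exact ⟨MulEquiv.ofBijective F hb⟩

end Cfsg.Agent.H824.ProdLem
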